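import Mathlib

set_option autoImplicit false

namespace Groth.Agent.Lib.helper1.NN

open IntermediateField

variable {k L : Type*} [Field k] [Field L] [Algebra k L]
variable {G : Type*} [Group G] [Fintype G] [MulSemiringAction G L]

/-- **Speiser's lemma** (Galois descent for vector spaces), in the form: for a finite group `G`
acting on a field `L`, faithfully on a stable subfield `E`, every `G`-stable `E`-subspace `W` of
`L` is spanned over `E` by its `G`-invariant vectors. -/
theorem speiser (E : IntermediateField k L) (hE : ∀ (g : G) (e : L), e ∈ E → g • e ∈ E)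
    (hfaith : ∀ g : G, (∀ e ∈ E, g • e = e) → g = 1)
    (W : Submodule E L) (hW : ∀ (g : G) (w : L), w ∈ W → g • w ∈ W) :
    Submodule.span E {w : L | w ∈ W ∧ ∀ g : G, g • w = w} = W := by
  classical
  apply le_antisymm
  · exact Submodule.span_le.2 fun w hw => hw.1
  · intro w hw
    by_contra hnot
    obtain ⟨f, hfw, hf⟩ := Submodule.exists_dual_map_eq_bot_of_notMem hnot inferInstance
    -- the restricted action on `E`
    let ρ : G → (E →* E) := fun g =>
      { toFun := fun e => ⟨g • (e : L), hE g e e.2⟩
        map_one' := Subtype.ext (smul_one g)
        map_mul' := fun a b => Subtype.ext (smul_mul' g (a : L) (b : L)) }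
    have hρ : Function.Injective ρ := by
      intro g h hgh
      have h1 : ∀ e ∈ E, (h⁻¹ * g) • e = e := by
        intro e he
        have := congrArg (fun φ : E →* E => ((φ ⟨e, he⟩ : E) : L)) hgh
        simp only [ρ, MonoidHom.coe_mk, OneHom.coe_mk] at this
        rw [mul_smul, this, inv_smul_smul]
      have := hfaith _ h1
      rw [inv_mul_eq_one] at this
      exact this.symm
    have hli : LinearIndependent E (fun g : G => (ρ g : E → E)) :=
      (linearIndependent_monoidHom E E).comp ρ hρ
    have hsum : ∑ g : G, f (g • w) • (ρ g : E → E) = 0 := by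
      funext e
      rw [Finset.sum_apply, Pi.zero_apply]
      simp only [Pi.smul_apply, smul_eq_mul]
      -- the averaged vector
      have hv : ∑ g : G, g • ((e : L) * w) ∈ {w : L | w ∈ W ∧ ∀ g : G, g • w = w} := by
        refine ⟨Submodule.sum_mem _ fun g _ => hW g _ ?_, fun h => ?_⟩
        · have : (e : L) * w = e • w := rfl
          rw [this]
          exact W.smul_mem e hw
        · rw [Finset.smul_sum]
          simp_rw [← mul_smul]
          exact Fintype.sum_bijective (fun g => h * g) (Group.mulLeft_bijective h) _ _
            (fun g => rfl)
      have h0 : f (∑ g : G, g • ((e : L) * w)) = 0 := by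
        have : f (∑ g : G, g • ((e : L) * w)) ∈ Submodule.map f
            (Submodule.span E {w : L | w ∈ W ∧ ∀ g : G, g • w = w}) :=
          Submodule.mem_map_of_mem (Submodule.subset_span hv)
        rw [hf] at this
        exact (Submodule.mem_bot _).1 this
      rw [map_sum] at h0
      rw [← h0]
      refine Finset.sum_congr rfl fun g _ => ?_
      have : g • ((e : L) * w) = (ρ g e) • (g • w) := by
        rw [smul_mul']; rfl
      rw [this, f.map_smul (ρ g e) (g • w), smul_eq_mul, mul_comm]
    have := Fintype.linearIndependent_iff.1 hli (fun g => f (g • w)) hsum 1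
    rw [one_smul] at this
    exact hfw this

end Groth.Agent.Lib.helper1.NN
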