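import Mathlib

/-!
# Coordinates in a rank-3 free Lie algebra
-/

namespace Groth.Agent.Lib.helper1.DN3

variable {S : Type*} [CommRing S] {L : Type*}

section Mod
variable [AddCommGroup L] [Module S L] (bs : Module.Basis (Fin 3) S L)

/-- the vector with given coordinates -/
noncomputable def vec (c₀ c₁ c₂ : S) : L := c₀ • bs 0 + c₁ • bs 1 + c₂ • bs 2

theorem repr_vec (c₀ c₁ c₂ : S) (k : Fin 3) :
    bs.repr (vec bs c₀ c₁ c₂) k = ![c₀, c₁, c₂] k := by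
  unfold vec
  simp only [map_add, map_smul, Module.Basis.repr_self, Finsupp.coe_add, Finsupp.coe_smul,
    Pi.add_apply, Pi.smul_apply, smul_eq_mul]
  fin_cases k <;> simp [Finsupp.single_apply]

theorem vec_inj {c₀ c₁ c₂ d₀ d₁ d₂ : S} :
    vec bs c₀ c₁ c₂ = vec bs d₀ d₁ d₂ ↔ c₀ = d₀ ∧ c₁ = d₁ ∧ c₂ = d₂ := by
  constructor
  · intro h
    have h0 := congrArg (fun w => bs.repr w 0) h
    have h1 := congrArg (fun w => bs.repr w 1) h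
    have h2 := congrArg (fun w => bs.repr w 2) h
    simp only [repr_vec] at h0 h1 h2
    exact ⟨by simpa using h0, by simpa using h1, by simpa using h2⟩
  · rintro ⟨rfl, rfl, rfl⟩; rfl

theorem exists_vec (w : L) : ∃ c₀ c₁ c₂ : S, w = vec bs c₀ c₁ c₂ := by
  refine ⟨bs.repr w 0, bs.repr w 1, bs.repr w 2, ?_⟩
  conv_lhs => rw [← bs.sum_repr w]
  rw [Fin.sum_univ_three]
  rfl

theorem vec_add (c₀ c₁ c₂ d₀ d₁ d₂ : S) :
    vec bs c₀ c₁ c₂ + vec bs d₀ d₁ d₂ = vec bs (c₀ + d₀) (c₁ + d₁) (c₂ + d₂) := by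
  unfold vec; simp only [add_smul]; abel

theorem vec_smul (r c₀ c₁ c₂ : S) :
    r • vec bs c₀ c₁ c₂ = vec bs (r * c₀) (r * c₁) (r * c₂) := by
  unfold vec; simp only [smul_add, smul_smul]

theorem vec_neg (c₀ c₁ c₂ : S) :
    - vec bs c₀ c₁ c₂ = vec bs (-c₀) (-c₁) (-c₂) := by
  unfold vec; simp only [neg_smul]; abel

theorem vec_zero : vec bs (0:S) 0 0 = 0 := by
  unfold vec; simp

theorem bs0 : bs 0 = vec bs (1:S) 0 0 := by unfold vec; simp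
theorem bs1 : bs 1 = vec bs (0:S) 1 0 := by unfold vec; simp
theorem bs2 : bs 2 = vec bs (0:S) 0 1 := by unfold vec; simp

end Mod

section Lie
variable [LieRing L] [LieAlgebra S L] (bs : Module.Basis (Fin 3) S L)
  {A₀ A₁ A₂ B₀ B₁ B₂ C₀ C₁ C₂ : S}

theorem lie_vec (hxy : ⁅bs 0, bs 1⁆ = vec bs A₀ A₁ A₂) (hxz : ⁅bs 0, bs 2⁆ = vec bs B₀ B₁ B₂)
    (hyz : ⁅bs 1, bs 2⁆ = vec bs C₀ C₁ C₂) (c₀ c₁ c₂ d₀ d₁ d₂ : S) :
    ⁅vec bs c₀ c₁ c₂, vec bs d₀ d₁ d₂⁆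
      = vec bs ((c₀ * d₁ - c₁ * d₀) * A₀ + (c₀ * d₂ - c₂ * d₀) * B₀ + (c₁ * d₂ - c₂ * d₁) * C₀)
          ((c₀ * d₁ - c₁ * d₀) * A₁ + (c₀ * d₂ - c₂ * d₀) * B₁ + (c₁ * d₂ - c₂ * d₁) * C₁)
          ((c₀ * d₁ - c₁ * d₀) * A₂ + (c₀ * d₂ - c₂ * d₀) * B₂ + (c₁ * d₂ - c₂ * d₁) * C₂) := by
  have hyx : ⁅bs 1, bs 0⁆ = - vec bs A₀ A₁ A₂ := by rw [← lie_skew, hxy]
  have hzx : ⁅bs 2, bs 0⁆ = - vec bs B₀ B₁ B₂ := by rw [← lie_skew, hxz]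
  have hzy : ⁅bs 2, bs 1⁆ = - vec bs C₀ C₁ C₂ := by rw [← lie_skew, hyz]
  conv_lhs => unfold vec
  simp only [add_lie, lie_add, smul_lie, lie_smul, lie_self, hxy, hxz, hyz, hyx, hzx, hzy,
    smul_zero, add_zero, zero_add, vec_neg, vec_smul, vec_add]
  rw [vec_inj]
  refine ⟨by ring, by ring, by ring⟩

end Lie

end Groth.Agent.Lib.helper1.DN3
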