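import Mathlib

namespace Groth.Agent.Lib.helper1.PP

open AlgebraicGeometry CategoryTheory TopologicalSpace

universe u

variable {X : Scheme.{u}}

/-- restriction -/
noncomputable def res (W V : X.Opens) (h : V ≤ W) : Γ(X, W) →+* Γ(X, V) :=
  (X.presheaf.map (homOfLE h).op).hom

lemma res_res (W V V' : X.Opens) (h : V ≤ W) (h' : V' ≤ V) (a : Γ(X, W)) :
    res V V' h' (res W V h a) = res W V' (h'.trans h) a := by
  simp only [res]
  rw [← CommRingCat.comp_apply, ← X.presheaf.map_comp]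
  rfl

lemma algebraMap_eq_res {U : X.Opens} (f : Γ(X, U)) :
    algebraMap Γ(X, U) Γ(X, X.basicOpen f) = res U (X.basicOpen f) (X.basicOpen_le f) := rfl

lemma res_injective [IsAffine X] [IsDomain Γ(X, ⊤)] (f : Γ(X, ⊤)) (hf : f ≠ 0) :
    Function.Injective (res ⊤ (X.basicOpen f) le_top) := by
  have : IsLocalization.Away f Γ(X, X.basicOpen f) := inferInstance
  have h := IsLocalization.injective (M := Submonoid.powers f) Γ(X, X.basicOpen f)
    (powers_le_nonZeroDivisors_of_noZeroDivisors hf)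
  exact h

lemma isUnit_res_self [IsAffine X] (f : Γ(X, ⊤)) :
    IsUnit (res ⊤ (X.basicOpen f) le_top f) := by
  have : IsLocalization.Away f Γ(X, X.basicOpen f) := inferInstance
  exact IsLocalization.Away.algebraMap_isUnit f

lemma hartogs [IsAffine X] [IsDomain Γ(X, ⊤)] (fx fy : Γ(X, ⊤)) (hpx : Prime fx) (hy0 : fy ≠ 0)
    (hnd : ¬ fx ∣ fy) (α : Γ(X, X.basicOpen fx ⊔ X.basicOpen fy)) :
    ∃ p : Γ(X, ⊤), res _ (X.basicOpen fx) le_sup_left α = res ⊤ (X.basicOpen fx) le_top p := by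
  have locx : IsLocalization.Away fx Γ(X, X.basicOpen fx) := inferInstance
  have locy : IsLocalization.Away fy Γ(X, X.basicOpen fy) := inferInstance
  obtain ⟨⟨a, ⟨_, m, rfl⟩⟩, ha⟩ := IsLocalization.surj (Submonoid.powers fx)
    (res _ (X.basicOpen fx) le_sup_left α)
  obtain ⟨⟨b, ⟨_, n, rfl⟩⟩, hb⟩ := IsLocalization.surj (Submonoid.powers fy)
    (res _ (X.basicOpen fy) le_sup_right α)
  simp only [algebraMap_eq_res] at ha hb
  have hxyx : X.basicOpen (fx * fy) ≤ X.basicOpen fx := by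
    rw [Scheme.basicOpen_mul]; exact inf_le_left
  have hxyy : X.basicOpen (fx * fy) ≤ X.basicOpen fy := by
    rw [Scheme.basicOpen_mul]; exact inf_le_right
  have ha' := congrArg (res _ (X.basicOpen (fx * fy)) hxyx) ha
  have hb' := congrArg (res _ (X.basicOpen (fx * fy)) hxyy) hb
  simp only [map_mul, res_res] at ha' hb'
  have hab : a * fy ^ n = b * fx ^ m := by
    apply res_injective (fx * fy) (mul_ne_zero hpx.ne_zero hy0)
    rw [map_mul, map_mul, ← ha', ← hb']
    ring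
  have hdvd : fx ^ m ∣ a := by
    refine hpx.pow_dvd_of_dvd_mul_right (b := fy ^ n) m
      (fun h => hnd (hpx.dvd_of_dvd_pow h)) ?_
    exact ⟨b, by rw [hab]; ring⟩
  obtain ⟨p, rfl⟩ := hdvd
  refine ⟨p, ?_⟩
  rw [map_mul, mul_comm] at ha
  exact ((isUnit_res_self fx).pow m).mul_left_cancel (by rw [← map_pow] ; exact ha)

theorem not_affine [IsAffine X] [IsDomain Γ(X, ⊤)] (fx fy : Γ(X, ⊤)) (hpx : Prime fx)
    (hy0 : fy ≠ 0) (hnd : ¬ fx ∣ fy) (hspan : Ideal.span {fx, fy} ≠ ⊤) :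
    ¬ IsAffineOpen (X.basicOpen fx ⊔ X.basicOpen fy) := by
  intro hU
  let rx : Γ(X, X.basicOpen fx ⊔ X.basicOpen fy) := res ⊤ _ le_top fx
  let ry : Γ(X, X.basicOpen fx ⊔ X.basicOpen fy) := res ⊤ _ le_top fy
  have h1 : X.basicOpen rx = X.basicOpen fx := by
    have : X.basicOpen rx = (X.basicOpen fx ⊔ X.basicOpen fy) ⊓ X.basicOpen fx :=
      X.basicOpen_res _ _
    rw [this]; exact inf_eq_right.mpr le_sup_left
  have h2 : X.basicOpen ry = X.basicOpen fy := by
    have : X.basicOpen ry = (X.basicOpen fx ⊔ X.basicOpen fy) ⊓ X.basicOpen fy :=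
      X.basicOpen_res _ _
    rw [this]; exact inf_eq_right.mpr le_sup_right
  have hs : Ideal.span ({rx, ry} : Set Γ(X, X.basicOpen fx ⊔ X.basicOpen fy)) = ⊤ := by
    rw [← hU.self_le_iSup_basicOpen_iff]
    apply sup_le
    · exact le_trans (le_of_eq h1.symm)
        (le_iSup (fun f : ({rx, ry} : Set Γ(X, X.basicOpen fx ⊔ X.basicOpen fy)) =>
          X.basicOpen f.1) ⟨rx, by simp⟩)
    · exact le_trans (le_of_eq h2.symm)
        (le_iSup (fun f : ({rx, ry} : Set Γ(X, X.basicOpen fx ⊔ X.basicOpen fy)) =>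
          X.basicOpen f.1) ⟨ry, by simp⟩)
  rw [Ideal.eq_top_iff_one, Ideal.mem_span_pair] at hs
  obtain ⟨α, β, hαβ⟩ := hs
  obtain ⟨p, hp⟩ := hartogs fx fy hpx hy0 hnd α
  obtain ⟨q, hq⟩ := hartogs fx fy hpx hy0 hnd β
  have h3 := congrArg (res _ (X.basicOpen fx) le_sup_left) hαβ
  simp only [map_add, map_mul, map_one, hp, hq, rx, ry, res_res] at h3
  have h4 : p * fx + q * fy = 1 := by
    apply res_injective fx hpx.ne_zero
    rw [map_add, map_mul, map_mul, map_one]
    exact h3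
  apply hspan
  rw [Ideal.eq_top_iff_one, Ideal.mem_span_pair]
  exact ⟨p, q, h4⟩

theorem main (K : Type u) [Field K] :
    ¬ IsAffineOpen (X := Spec (CommRingCat.of (MvPolynomial (Fin 2) K)))
      (PrimeSpectrum.basicOpen (MvPolynomial.X 0 : MvPolynomial (Fin 2) K) ⊔
        PrimeSpectrum.basicOpen (MvPolynomial.X 1 : MvPolynomial (Fin 2) K)) := by
  let R : CommRingCat.{u} := CommRingCat.of (MvPolynomial (Fin 2) K)
  let e : MvPolynomial (Fin 2) K ≃+* Γ(Spec R, ⊤) :=
    (Scheme.ΓSpecIso R).symm.commRingCatIsoToRingEquiv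
  haveI : IsDomain Γ(Spec R, ⊤) := MulEquiv.isDomain (MvPolynomial (Fin 2) K) e.symm.toMulEquiv
  have hp : Prime (e (MvPolynomial.X 0)) := (MulEquiv.prime_iff e).mpr MvPolynomial.X_prime
  have h0 : e (MvPolynomial.X 1) ≠ 0 :=
    (map_ne_zero_iff e e.injective).mpr (MvPolynomial.X_ne_zero 1)
  have hnd : ¬ e (MvPolynomial.X 0) ∣ e (MvPolynomial.X 1) := by
    rw [map_dvd_iff e, MvPolynomial.X_dvd_X]
    decide
  have hspan : Ideal.span {e (MvPolynomial.X 0), e (MvPolynomial.X 1)} ≠ ⊤ := by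
    intro h
    rw [Ideal.eq_top_iff_one, Ideal.mem_span_pair] at h
    obtain ⟨p, q, hpq⟩ := h
    have := congrArg (fun z => MvPolynomial.constantCoeff (e.symm z)) hpq
    simp at this
  have := not_affine (X := Spec R) _ _ hp h0 hnd hspan
  have e0 : (Spec R).basicOpen (e (MvPolynomial.X 0)) =
      PrimeSpectrum.basicOpen (MvPolynomial.X 0 : MvPolynomial (Fin 2) K) :=
    basicOpen_eq_of_affine (R := R) _
  have e1 : (Spec R).basicOpen (e (MvPolynomial.X 1)) =
      PrimeSpectrum.basicOpen (MvPolynomial.X 1 : MvPolynomial (Fin 2) K) :=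
    basicOpen_eq_of_affine (R := R) _
  rw [e0, e1] at this
  exact this

end Groth.Agent.Lib.helper1.PP
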