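import Mathlib

/-!
# Regular sequences all of whose permutations are regular
-/

open RingTheory.Sequence

namespace Groth.Agent.Lib.helper1.RS

variable {S : Type*} [CommRing S]

lemma isWeaklyRegular_iff_mem (rs : List S) :
    IsWeaklyRegular S rs ↔ ∀ i (h : i < rs.length), ∀ x : S,
      rs[i] * x ∈ Ideal.ofList (rs.take i) → x ∈ Ideal.ofList (rs.take i) := by
  rw [isWeaklyRegular_iff]
  refine forall_congr' fun i => forall_congr' fun h => ?_
  rw [isSMulRegular_quotient_iff_mem_of_smul_mem]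
  simp only [smul_eq_mul, Ideal.mul_top]

lemma ofList_take_ofFn {r : ℕ} (g : Fin r → S) (i : ℕ) :
    Ideal.ofList ((List.ofFn g).take i) = Ideal.span (g '' {j : Fin r | j.val < i}) := by
  unfold Ideal.ofList
  congr 1
  ext x
  simp only [Set.mem_ofPred_eq, Set.mem_image]
  rw [List.mem_take_iff_getElem]
  constructor
  · rintro ⟨k, hk, rfl⟩
    have hk' : k < r := by
      have := lt_min_iff.mp hk
      simpa using this.2
    exact ⟨⟨k, hk'⟩, (lt_min_iff.mp hk).1, by simp⟩
  · rintro ⟨j, hj, rfl⟩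
    exact ⟨j.val, lt_min_iff.mpr ⟨hj, by simp⟩, by simp⟩

lemma isWeaklyRegular_ofFn_iff {r : ℕ} (g : Fin r → S) :
    IsWeaklyRegular S (List.ofFn g) ↔ ∀ i : Fin r, ∀ x : S,
      g i * x ∈ Ideal.span (g '' {j : Fin r | j < i}) →
        x ∈ Ideal.span (g '' {j : Fin r | j < i}) := by
  rw [isWeaklyRegular_iff_mem]
  constructor
  · intro h i x hx
    have := h i.val (by simp) x
    rw [ofList_take_ofFn] at this
    simp only [List.getElem_ofFn] at this
    exact this hx
  · intro h i hi x hx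
    have hi' : i < r := by simpa using hi
    rw [ofList_take_ofFn] at hx ⊢
    simp only [List.getElem_ofFn] at hx
    exact h ⟨i, hi'⟩ x hx

/-- `f i` is a nonzerodivisor modulo the ideal generated by the `f j`, `j ∈ T`. -/
def NZD {r : ℕ} (f : Fin r → S) (i : Fin r) (T : Set (Fin r)) : Prop :=
  ∀ x : S, f i * x ∈ Ideal.span (f '' T) → x ∈ Ideal.span (f '' T)


lemma span_image_insert {r : ℕ} (f : Fin r → S) (m : Fin r) (T : Set (Fin r)) :
    Ideal.span (f '' insert m T) = Ideal.span (f '' T) ⊔ Ideal.span {f m} := by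
  rw [Set.image_insert_eq, Set.insert_eq, Ideal.span_union, sup_comm]

/-- swap lemma -/
lemma nzd_swap {r : ℕ} (f : Fin r → S) (i m : Fin r) (T' : Set (Fin r))
    (ha : NZD f m (insert i T')) (hb : NZD f i T') : NZD f i (insert m T') := by
  intro x hx
  rw [span_image_insert] at hx ⊢
  obtain ⟨t, ht, y', hy', hxy⟩ := Submodule.mem_sup.mp hx
  obtain ⟨y, rfl⟩ := Ideal.mem_span_singleton'.mp hy'
  have h1 : f m * y ∈ Ideal.span (f '' insert i T') := by
    rw [span_image_insert]
    have : f m * y = -t + x * f i := by rw [mul_comm x, ← hxy]; ring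
    rw [this]
    exact Submodule.add_mem_sup (Ideal.neg_mem_iff _ |>.mpr ht)
      (Ideal.mem_span_singleton'.mpr ⟨x, rfl⟩)
  have h2 := ha y h1
  rw [span_image_insert] at h2
  obtain ⟨t', ht', z', hz', hyz⟩ := Submodule.mem_sup.mp h2
  obtain ⟨z, rfl⟩ := Ideal.mem_span_singleton'.mp hz'
  have h3 : f i * (x - z * f m) ∈ Ideal.span (f '' T') := by
    have : f i * (x - z * f m) = t + t' * f m := by
      have e1 : f i * x = t + y * f m := hxy.symm
      have e2 : y = t' + z * f i := hyz.symm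
      calc f i * (x - z * f m) = f i * x - z * f i * f m := by ring
        _ = t + (t' + z * f i) * f m - z * f i * f m := by rw [e1, e2]
        _ = t + t' * f m := by ring
    rw [this]
    exact Ideal.add_mem _ ht (Ideal.mul_mem_right _ _ ht')
  have h4 := hb _ h3
  have : x = (x - z * f m) + z * f m := by ring
  rw [this]
  exact Submodule.add_mem_sup h4 (Ideal.mem_span_singleton'.mpr ⟨z, rfl⟩)

lemma nzd_of_lt {r : ℕ} (f : Fin r → S)
    (hC : ∀ i (T : Finset (Fin r)), (∀ j ∈ T, j < i) → NZD f i T) :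
    ∀ (n : ℕ) (i : Fin r) (T : Finset (Fin r)), i ∉ T → (T.filter (i < ·)).card = n →
      NZD f i T := by
  intro n
  induction n with
  | zero =>
    intro i T hi hcard
    apply hC
    intro j hj
    have h1 : j ∉ T.filter (i < ·) := by rw [Finset.card_eq_zero.mp hcard]; simp
    have h2 : ¬ i < j := fun h => h1 (Finset.mem_filter.mpr ⟨hj, h⟩)
    exact lt_of_le_of_ne (not_lt.mp h2) (fun h => hi (h ▸ hj))
  | succ n ih =>
    intro i T hi hcard
    have hne : (T.filter (i < ·)).Nonempty := Finset.card_pos.mp (by omega)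
    set m := (T.filter (i < ·)).max' hne with hm
    have hmT : m ∈ T ∧ i < m := Finset.mem_filter.mp (Finset.max'_mem _ hne)
    set T' := T.erase m with hT'
    have hTeq : (T : Set (Fin r)) = insert m (T' : Set (Fin r)) := by
      rw [hT', ← Finset.coe_insert, Finset.insert_erase hmT.1]
    have ha : NZD f m (insert i (T' : Set (Fin r))) := by
      have := hC m (insert i T') (by
        intro j hj
        rcases Finset.mem_insert.mp hj with rfl | hj
        · exact hmT.2
        · have hjT : j ∈ T := Finset.mem_of_mem_erase hj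
          have hjm : j ≠ m := Finset.ne_of_mem_erase hj
          by_cases hij : i < j
          · exact lt_of_le_of_ne (Finset.le_max' _ j (Finset.mem_filter.mpr ⟨hjT, hij⟩)) hjm
          · exact lt_of_le_of_lt (not_lt.mp hij) hmT.2)
      rwa [Finset.coe_insert] at this
    have hb : NZD f i (T' : Set (Fin r)) := by
      apply ih i T' (fun h => hi (Finset.mem_of_mem_erase h))
      have : T'.filter (i < ·) = (T.filter (i < ·)).erase m := by
        rw [hT', Finset.filter_erase]
      rw [this, Finset.card_erase_of_mem (Finset.max'_mem _ hne), hcard]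
      rfl
    rw [hTeq]
    exact nzd_swap f i m _ ha hb

lemma nzd_of_lt' {r : ℕ} (f : Fin r → S)
    (hC : ∀ i (T : Finset (Fin r)), (∀ j ∈ T, j < i) → NZD f i T)
    (i : Fin r) (T : Finset (Fin r)) (hi : i ∉ T) : NZD f i T :=
  nzd_of_lt f hC _ i T hi rfl

lemma weaklyRegular_perm_of_nzd {r : ℕ} (f : Fin r → S)
    (hC' : ∀ i (T : Finset (Fin r)), i ∉ T → NZD f i T) (σ : Equiv.Perm (Fin r)) :
    IsWeaklyRegular S (List.ofFn (f ∘ σ)) := by
  rw [isWeaklyRegular_ofFn_iff]
  intro i x hx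
  have himg : (f ∘ σ) '' {j | j < i} =
      f '' (((Finset.univ.filter (· < i)).map σ.toEmbedding : Finset (Fin r)) : Set (Fin r)) := by
    ext y
    simp only [Set.mem_image, Set.mem_ofPred_eq, Function.comp_apply, Finset.coe_map,
      Equiv.coe_toEmbedding, Finset.coe_filter, Finset.mem_univ, true_and]
    constructor
    · rintro ⟨j, hj, rfl⟩; exact ⟨σ j, ⟨j, hj, rfl⟩, rfl⟩
    · rintro ⟨_, ⟨j, hj, rfl⟩, rfl⟩; exact ⟨j, hj, rfl⟩
  rw [himg] at hx ⊢
  refine hC' (σ i) _ ?_ x hx
  simp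


lemma subtypeCongr_apply_pos {α : Type*} {p q : α → Prop} [DecidablePred p] [DecidablePred q]
    (e : {x // p x} ≃ {x // q x}) (f : {x // ¬ p x} ≃ {x // ¬ q x}) (a : α) (h : p a) :
    Equiv.subtypeCongr e f a = e ⟨a, h⟩ := by
  simp [Equiv.subtypeCongr, Equiv.sumCompl_symm_apply_of_pos h]

lemma subtypeCongr_apply_neg {α : Type*} {p q : α → Prop} [DecidablePred p] [DecidablePred q]
    (e : {x // p x} ≃ {x // q x}) (f : {x // ¬ p x} ≃ {x // ¬ q x}) (a : α) (h : ¬ p a) :
    Equiv.subtypeCongr e f a = f ⟨a, h⟩ := by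
  simp [Equiv.subtypeCongr, Equiv.sumCompl_symm_apply_of_neg h]

lemma exists_perm {r : ℕ} (i : Fin r) (T : Finset (Fin r)) (hi : i ∉ T) :
    ∃ (hs : T.card < r) (σ : Equiv.Perm (Fin r)), σ ⟨T.card, hs⟩ = i ∧
      ∀ j : Fin r, j.val < T.card ↔ σ j ∈ T := by
  classical
  set s := T.card with hsdef
  have hs : s < r := by
    have h1 : T ⊂ Finset.univ := by
      rw [Finset.ssubset_univ_iff]
      intro h; exact hi (h ▸ Finset.mem_univ i)
    have := Finset.card_lt_card h1
    simpa using this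
  have hc1 : Fintype.card {j : Fin r // j.val < s} = s := by
    rw [Fintype.card_subtype, Fin.card_filter_val_lt]; omega
  have hc2 : Fintype.card {k : Fin r // k ∈ T} = s := by
    rw [Fintype.card_coe]
  let e₁ : {j : Fin r // j.val < s} ≃ {k : Fin r // k ∈ T} :=
    Fintype.equivOfCardEq (hc1.trans hc2.symm)
  have hc3 : Fintype.card {j : Fin r // ¬ j.val < s} = Fintype.card {k : Fin r // ¬ k ∈ T} := by
    rw [Fintype.card_subtype_compl, Fintype.card_subtype_compl, hc1, hc2]
  let e₂ : {j : Fin r // ¬ j.val < s} ≃ {k : Fin r // ¬ k ∈ T} := Fintype.equivOfCardEq hc3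
  let a : {k : Fin r // ¬ k ∈ T} := e₂ ⟨⟨s, hs⟩, lt_irrefl s⟩
  let b : {k : Fin r // ¬ k ∈ T} := ⟨i, hi⟩
  let e₂' : {j : Fin r // ¬ j.val < s} ≃ {k : Fin r // ¬ k ∈ T} := e₂.trans (Equiv.swap a b)
  refine ⟨hs, Equiv.subtypeCongr e₁ e₂', ?_, ?_⟩
  · have hn : ¬ (⟨s, hs⟩ : Fin r).val < s := lt_irrefl s
    rw [subtypeCongr_apply_neg e₁ e₂' _ hn]
    simp [e₂', a, b]
  · intro j
    by_cases hj : j.val < s
    · rw [subtypeCongr_apply_pos e₁ e₂' _ hj]
      simp only [hj, true_iff]
      exact (e₁ ⟨j, hj⟩).2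
    · rw [subtypeCongr_apply_neg e₁ e₂' _ hj]
      simp only [hj, false_iff]
      exact (e₂' ⟨j, hj⟩).2

lemma nzd_of_weaklyRegular_perm {r : ℕ} (f : Fin r → S)
    (h1 : ∀ σ : Equiv.Perm (Fin r), IsWeaklyRegular S (List.ofFn (f ∘ σ)))
    (i : Fin r) (T : Finset (Fin r)) (hi : i ∉ T) : NZD f i T := by
  obtain ⟨hs, σ, hσ1, hσ2⟩ := exists_perm i T hi
  have h2 := (isWeaklyRegular_ofFn_iff _).mp (h1 σ) ⟨T.card, hs⟩
  have himg : (f ∘ σ) '' {j | j < (⟨T.card, hs⟩ : Fin r)} = f '' (T : Set (Fin r)) := by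
    ext y
    simp only [Set.mem_image, Set.mem_ofPred_eq, Function.comp_apply, Finset.mem_coe]
    constructor
    · rintro ⟨j, hj, rfl⟩
      exact ⟨σ j, (hσ2 j).mp hj, rfl⟩
    · rintro ⟨k, hk, rfl⟩
      refine ⟨σ.symm k, ?_, by simp⟩
      have := (hσ2 (σ.symm k)).mpr (by simpa using hk)
      exact this
  intro x hx
  have := h2 x
  rw [himg] at this
  simp only [Function.comp_apply, hσ1] at this
  exact this hx

end Groth.Agent.Lib.helper1.RS
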