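import Mathlib

/-! Towers of abelian groups: injective towers have surjective transition maps, and the higher
derived functors of the inverse limit vanish from degree two on. -/

set_option autoImplicit false

open CategoryTheory CategoryTheory.Limits Opposite

universe u

namespace Groth.Agent.Lib.helper23.TowerLim

/-- the tower of finite products of the terms of a tower -/
def towJ (I : ℕᵒᵖ ⥤ AddCommGrpCat.{u}) : ℕᵒᵖ ⥤ AddCommGrpCat.{u} where
  obj n := AddCommGrpCat.of (∀ k : {k : ℕ // k ≤ n.unop}, I.obj (op k.1))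
  map {n m} f := AddCommGrpCat.ofHom
    { toFun := fun x k => x ⟨k.1, k.2.trans (leOfHom f.unop)⟩
      map_zero' := rfl
      map_add' := fun _ _ => rfl }
  map_id _ := rfl
  map_comp _ _ := rfl

/-- the diagonal embedding of a tower into the tower of finite products -/
def towIncl (I : ℕᵒᵖ ⥤ AddCommGrpCat.{u}) : I ⟶ towJ I where
  app n := AddCommGrpCat.ofHom
    { toFun := fun x k => (I.map (homOfLE k.2).op).hom x
      map_zero' := by
        funext k
        exact map_zero _
      map_add' := fun x y => by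
        funext k
        exact map_add _ x y }
  naturality n m f := by
    ext x
    funext k
    show (I.map (homOfLE k.2).op).hom ((I.map f).hom x) =
      (I.map (homOfLE (k.2.trans (leOfHom f.unop))).op).hom x
    have : f ≫ (homOfLE k.2).op = (homOfLE (k.2.trans (leOfHom f.unop))).op :=
      Subsingleton.elim _ _
    rw [← this, I.map_comp]
    rfl

lemma towIncl_app_injective (I : ℕᵒᵖ ⥤ AddCommGrpCat.{u}) (n : ℕᵒᵖ) :
    Function.Injective ((towIncl I).app n).hom := by
  intro x y hxy
  have h1 := congrFun hxy ⟨n.unop, le_refl _⟩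
  have h2 : (I.map (homOfLE (le_refl n.unop)).op).hom x = x := by
    have : (homOfLE (le_refl n.unop)).op = 𝟙 n := Subsingleton.elim _ _
    rw [this, I.map_id]
    rfl
  have h3 : (I.map (homOfLE (le_refl n.unop)).op).hom y = y := by
    have : (homOfLE (le_refl n.unop)).op = 𝟙 n := Subsingleton.elim _ _
    rw [this, I.map_id]
    rfl
  exact h2.symm.trans (h1.trans h3)

instance towIncl_mono (I : ℕᵒᵖ ⥤ AddCommGrpCat.{u}) : Mono (towIncl I) := by
  haveI : ∀ n, Mono ((towIncl I).app n) := fun n =>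
    (AddCommGrpCat.mono_iff_injective _).2 (towIncl_app_injective I n)
  exact NatTrans.mono_of_mono_app _

open Classical in
lemma towJ_map_surjective (I : ℕᵒᵖ ⥤ AddCommGrpCat.{u}) {n m : ℕᵒᵖ} (f : n ⟶ m) :
    Function.Surjective ((towJ I).map f).hom := by
  intro x
  refine ⟨fun k => if h : k.1 ≤ m.unop then x ⟨k.1, h⟩ else 0, ?_⟩
  funext k
  show (if h : k.1 ≤ m.unop then x ⟨k.1, h⟩ else 0) = x k
  rw [dif_pos k.2]

/-- the transition maps of an injective tower are surjective -/
theorem map_surjective_of_injective (I : ℕᵒᵖ ⥤ AddCommGrpCat.{u}) [Injective I] {n m : ℕᵒᵖ}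
    (f : n ⟶ m) : Function.Surjective (I.map f).hom := by
  let s : towJ I ⟶ I := Injective.factorThru (𝟙 I) (towIncl I)
  have hs : towIncl I ≫ s = 𝟙 I := Injective.comp_factorThru _ _
  intro a
  obtain ⟨b, hb⟩ := towJ_map_surjective I f (((towIncl I).app m).hom a)
  refine ⟨(s.app n).hom b, ?_⟩
  have h1 : (I.map f).hom ((s.app n).hom b) = (s.app m).hom (((towJ I).map f).hom b) := by
    have := s.naturality f
    exact (ConcreteCategory.congr_hom this b).symm
  rw [h1, hb]
  have h2 := congrArg (fun t : I ⟶ I => (t.app m).hom a) hs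
  exact h2

section Exact

variable {A B C D : ℕᵒᵖ ⥤ AddCommGrpCat.{u}} (f : A ⟶ B) (g : B ⟶ C) (h : C ⟶ D)

/-- the transition map from level `n + 1` to level `n` -/
abbrev tr (T : ℕᵒᵖ ⥤ AddCommGrpCat.{u}) (n : ℕ) : T.obj (op (n + 1)) ⟶ T.obj (op n) :=
  T.map (homOfLE (Nat.le_succ n)).op

lemma tr_nat {S T : ℕᵒᵖ ⥤ AddCommGrpCat.{u}} (φ : S ⟶ T) (n : ℕ) (s : S.obj (op (n + 1))) :
    (tr T n).hom ((φ.app (op (n + 1))).hom s) = (φ.app (op n)).hom ((tr S n).hom s) := by
  have := φ.naturality (homOfLE (Nat.le_succ n)).op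
  exact (ConcreteCategory.congr_hom this s).symm

/-- an element of the limit from a compatible sequence -/
lemma exists_limit_of_compatible (T : ℕᵒᵖ ⥤ AddCommGrpCat.{u}) (y : ∀ n : ℕ, T.obj (op n))
    (hy : ∀ n, (tr T n).hom (y (n + 1)) = y n) :
    ∃ z : (limit T : AddCommGrpCat.{u}), ∀ n, (limit.π T (op n)).hom z = y n := by
  have hcompat : ∀ (m n : ℕ) (hmn : m ≤ n), (T.map (homOfLE hmn).op).hom (y n) = y m := by
    intro m n hmn
    induction n, hmn using Nat.le_induction with
    | base =>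
      have : (homOfLE (le_refl m)).op = 𝟙 (op m) := Subsingleton.elim _ _
      rw [this, T.map_id]
      rfl
    | succ n hmn ih =>
      have : (homOfLE (hmn.trans (Nat.le_succ n))).op =
          (homOfLE (Nat.le_succ n)).op ≫ (homOfLE hmn).op := Subsingleton.elim _ _
      rw [this, T.map_comp]
      show (T.map (homOfLE hmn).op).hom ((tr T n).hom (y (n + 1))) = y m
      rw [hy n, ih]
  let c : Cone T :=
    { pt := AddCommGrpCat.of (ULift.{u} ℤ)
      π :=
        { app := fun n => AddCommGrpCat.ofHom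
            ((zmultiplesHom _ (y n.unop)).comp (AddEquiv.ulift : ULift.{u} ℤ ≃+ ℤ).toAddMonoidHom)
          naturality := fun n m k => by
            ext t
            show (zmultiplesHom _ (y m.unop)) ((AddEquiv.ulift : ULift.{u} ℤ ≃+ ℤ) t) =
              (T.map k).hom ((zmultiplesHom _ (y n.unop)) ((AddEquiv.ulift : ULift.{u} ℤ ≃+ ℤ) t))
            have hk : k = (homOfLE (leOfHom k.unop)).op := Subsingleton.elim _ _
            rw [zmultiplesHom_apply, zmultiplesHom_apply, map_zsmul, hk,
              hcompat m.unop n.unop (leOfHom k.unop)] } }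
  refine ⟨(limit.lift T c).hom (ULift.up 1), ?_⟩
  intro n
  have h1 := limit.lift_π c (op n)
  have h2 := ConcreteCategory.congr_hom h1 (ULift.up (1 : ℤ))
  refine h2.trans ?_
  show (zmultiplesHom _ (y n)) ((AddEquiv.ulift : ULift.{u} ℤ ≃+ ℤ) (ULift.up (1 : ℤ))) = y n
  rw [zmultiplesHom_apply]
  exact one_zsmul _

include f g h in
/-- the key exactness statement for limits of towers -/
theorem exists_limit_preimage
    (hfg : ∀ n (a : A.obj (op n)), (g.app (op n)).hom ((f.app (op n)).hom a) = 0)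
    (exB : ∀ n (b : B.obj (op n)), (g.app (op n)).hom b = 0 → ∃ a, (f.app (op n)).hom a = b)
    (exC : ∀ n (c : C.obj (op n)), (h.app (op n)).hom c = 0 → ∃ b, (g.app (op n)).hom b = c)
    (hA : ∀ n, Function.Surjective (tr A n).hom)
    (x : (limit C : AddCommGrpCat.{u})) (hx : (limMap h).hom x = 0) :
    ∃ y : (limit B : AddCommGrpCat.{u}), (limMap g).hom y = x := by
  classical
  let xs : ∀ n : ℕ, C.obj (op n) := fun n => (limit.π C (op n)).hom x
  have hxs : ∀ n, (h.app (op n)).hom (xs n) = 0 := by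
    intro n
    have h1 := limMap_π h (op n)
    have h2 := ConcreteCategory.congr_hom h1 x
    have h3 : (limit.π D (op n)).hom ((limMap h).hom x) = (h.app (op n)).hom (xs n) := h2
    rw [← h3, hx, map_zero]
  have hxtr : ∀ n, (tr C n).hom (xs (n + 1)) = xs n := by
    intro n
    have h1 := limit.w C (homOfLE (Nat.le_succ n)).op
    exact ConcreteCategory.congr_hom h1 x
  have step : ∀ (n : ℕ) (yn : B.obj (op n)), (g.app (op n)).hom yn = xs n →
      ∃ y' : B.obj (op (n + 1)), (g.app (op (n + 1))).hom y' = xs (n + 1) ∧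
        (tr B n).hom y' = yn := by
    intro n yn hyn
    obtain ⟨z, hz⟩ := exC (n + 1) (xs (n + 1)) (hxs (n + 1))
    have h1 : (g.app (op n)).hom ((tr B n).hom z - yn) = 0 := by
      rw [map_sub, ← tr_nat g n z, hz, hxtr, hyn, sub_self]
    obtain ⟨w, hw⟩ := exB n _ h1
    obtain ⟨w', hw'⟩ := hA n w
    refine ⟨z - (f.app (op (n + 1))).hom w', ?_, ?_⟩
    · rw [map_sub, hz, hfg, sub_zero]
    · rw [map_sub, tr_nat f n w', hw', hw]
      abel
  obtain ⟨y0, hy0⟩ := exC 0 (xs 0) (hxs 0)
  let Y : ∀ n : ℕ, {y : B.obj (op n) // (g.app (op n)).hom y = xs n} := fun n =>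
    Nat.rec (motive := fun n => {y : B.obj (op n) // (g.app (op n)).hom y = xs n}) ⟨y0, hy0⟩
      (fun n yn => ⟨Classical.choose (step n yn.1 yn.2),
        (Classical.choose_spec (step n yn.1 yn.2)).1⟩) n
  have hY : ∀ n, (tr B n).hom (Y (n + 1)).1 = (Y n).1 := fun n =>
    (Classical.choose_spec (step n (Y n).1 (Y n).2)).2
  obtain ⟨y, hy⟩ := exists_limit_of_compatible B (fun n => (Y n).1) hY
  refine ⟨y, ?_⟩
  apply Concrete.limit_ext
  rintro ⟨n⟩
  have h1 := limMap_π g (op n)
  have h2 := ConcreteCategory.congr_hom h1 y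
  refine h2.trans ?_
  show (g.app (op n)).hom ((limit.π B (op n)).hom y) = xs n
  rw [hy n]
  exact (Y n).2

end Exact

section Main

/-- exactness of a short complex of towers can be tested levelwise -/
lemma exact_app {S : ShortComplex (ℕᵒᵖ ⥤ AddCommGrpCat.{u})} (hS : S.Exact) (n : ℕ)
    (b : S.X₂.obj (op n)) (hb : (S.g.app (op n)).hom b = 0) :
    ∃ a : S.X₁.obj (op n), (S.f.app (op n)).hom a = b := by
  have h1 : (S.map ((evaluation ℕᵒᵖ AddCommGrpCat.{u}).obj (op n))).Exact := hS.map _
  rw [ShortComplex.ab_exact_iff] at h1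
  exact h1 b hb

/-- the derived functors of the inverse limit of towers of abelian groups vanish from degree two -/
theorem isZero_rightDerived_lim [EnoughInjectives (ℕᵒᵖ ⥤ AddCommGrpCat.{u})]
    [(lim : (ℕᵒᵖ ⥤ AddCommGrpCat.{u}) ⥤ AddCommGrpCat.{u}).Additive]
    (A : ℕᵒᵖ ⥤ AddCommGrpCat.{u}) (i : ℕ) (hi : 2 ≤ i) :
    IsZero (((lim : (ℕᵒᵖ ⥤ AddCommGrpCat.{u}) ⥤ AddCommGrpCat.{u}).rightDerived i).obj A) := by
  obtain ⟨j, rfl⟩ : ∃ j, i = j + 2 := ⟨i - 2, by omega⟩
  let I : InjectiveResolution A := InjectiveResolution.of A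
  let L : (ℕᵒᵖ ⥤ AddCommGrpCat.{u}) ⥤ AddCommGrpCat.{u} := lim
  refine IsZero.of_iso ?_ (I.isoRightDerivedObj L (j + 2))
  let K' := (L.mapHomologicalComplex (ComplexShape.up ℕ)).obj I.cocomplex
  show IsZero (K'.homology (j + 2))
  rw [← HomologicalComplex.exactAt_iff_isZero_homology,
    HomologicalComplex.exactAt_iff' K' (j + 1) (j + 2) (j + 3) (by simp)
      (by simp only [CochainComplex.next]; rfl),
    ShortComplex.ab_exact_iff]
  intro x hx
  haveI : Injective (I.cocomplex.X j) := I.injective j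
  have hA : ∀ n, Function.Surjective (tr (I.cocomplex.X j) n).hom := fun n =>
    map_surjective_of_injective (I.cocomplex.X j) _
  have hfg : ∀ n (a : (I.cocomplex.X j).obj (op n)),
      ((I.cocomplex.d (j + 1) (j + 2)).app (op n)).hom
        (((I.cocomplex.d j (j + 1)).app (op n)).hom a) = 0 := by
    intro n a
    have h1 := I.cocomplex.d_comp_d j (j + 1) (j + 2)
    have h2 := congrArg (fun t => (t.app (op n)).hom a) h1
    exact h2
  exact exists_limit_preimage (I.cocomplex.d j (j + 1)) (I.cocomplex.d (j + 1) (j + 2))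
    (I.cocomplex.d (j + 2) (j + 3)) hfg
    (fun n b hb => exact_app (I.exact_succ j) n b hb)
    (fun n c hc => exact_app (I.exact_succ (j + 1)) n c hc) hA x hx

end Main

end Groth.Agent.Lib.helper23.TowerLim
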