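import Mathlib

set_option autoImplicit false
set_option linter.unusedSectionVars false
universe u

namespace Groth.Agent.Lib.helper25.GenSm

open TensorProduct

section
variable (A B : Type u) [CommRing A] [CommRing B] [IsDomain A] [IsDomain B] [Algebra A B]
  [Algebra.FinitePresentation A B]
  (K L : Type u) [Field K] [Field L] [Algebra A K] [IsFractionRing A K] [Algebra B L]
  [IsFractionRing B L] [Algebra K L] [Algebra A L] [IsScalarTower A B L] [IsScalarTower A K L]

/-- generic smoothness: if `Frac B` is formally smooth over `Frac A` then `B[1/g]` is smooth over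
`A` for some `g ≠ 0`. -/
theorem exists_smooth_away [Algebra.FormallySmooth K L] :
    ∃ g : B, g ≠ 0 ∧ ∀ (C : Type u) [CommRing C] [Algebra B C] [IsLocalization.Away g C]
      [Algebra A C] [IsScalarTower A B C], Algebra.Smooth A C := by
  haveI : Algebra.FormallyEtale A K := Algebra.FormallyEtale.of_isLocalization (nonZeroDivisors A)
  haveI : Algebra.FormallySmooth A L := Algebra.FormallySmooth.comp A K L
  haveI hloc : IsLocalization (⊥ : Ideal B).primeCompl L := by
    rw [Ideal.primeCompl_bot]
    infer_instance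
  let e : L ≃ₐ[B] Localization.AtPrime (⊥ : Ideal B) :=
    IsLocalization.algEquiv (⊥ : Ideal B).primeCompl L (Localization.AtPrime (⊥ : Ideal B))
  have hsm : Algebra.IsSmoothAt A (⊥ : Ideal B) :=
    Algebra.FormallySmooth.of_equiv (e.restrictScalars A)
  have hmem : (⟨⊥, Ideal.isPrime_bot⟩ : PrimeSpectrum B) ∈ Algebra.smoothLocus A B := hsm
  obtain ⟨U, ⟨_, ⟨g, rfl⟩, rfl⟩, hgU, hUs⟩ :=
    PrimeSpectrum.isBasis_basic_opens.exists_subset_of_mem_open
      hmem (Algebra.isOpen_smoothLocus (R := A) (A := B))
  refine ⟨g, fun h => hgU (by rw [h]; exact Submodule.zero_mem _), ?_⟩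
  intro C _ _ _ _ _
  have hS : Algebra.Smooth A (Localization.Away g) :=
    Algebra.basicOpen_subset_smoothLocus_iff_smooth.1 hUs
  let e2 : Localization.Away g ≃ₐ[B] C := IsLocalization.algEquiv (Submonoid.powers g) _ _
  exact Algebra.Smooth.of_equiv (e2.restrictScalars A)

end

end Groth.Agent.Lib.helper25.GenSm
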