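import Mathlib
import Groth.Prelude.Def_Pi1

/-!
# Normal curves: local rings are regular of dimension ≤ 1
-/

set_option autoImplicit false
universe u

namespace Groth.Agent.H4Curve

open AlgebraicGeometry CategoryTheory Limits TopologicalSpace IsLocalRing

/-- A Noetherian normal local domain of dimension at most one is a regular local ring. -/
theorem regular_of_normal_dim_le_one (R : Type u) [CommRing R] [IsLocalRing R]
    [IsNoetherianRing R] [IsDomain R] [IsIntegrallyClosed R] (h : ringKrullDim R ≤ 1) :
    IsRegularLocalRing R := by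
  have h1 : Ring.KrullDimLE 1 R := by
    rw [Ring.krullDimLE_iff]
    exact_mod_cast h
  have h2 := Ring.krullDimLE_one_iff_of_noZeroDivisors.mp h1
  have h3 : IsIntegrallyClosed R ∧ ∀ P : Ideal R, P ≠ ⊥ → P.IsPrime → P = maximalIdeal R :=
    ⟨inferInstance, fun P hP hP' => eq_maximalIdeal (h2 P hP hP')⟩
  have h4 : IsPrincipalIdealRing R :=
    ((tfae_of_isNoetherianRing_of_isLocalRing_of_isDomain (R := R)).out 3 0).mp h3
  infer_instance

theorem ringKrullDim_stalk_le_of_specializes {X : Scheme.{u}} {x x₀ : X} (h : x ⤳ x₀) :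
    ringKrullDim (X.presheaf.stalk x) ≤ ringKrullDim (X.presheaf.stalk x₀) := by
  rw [ringKrullDim_stalk_eq_coheight, ringKrullDim_stalk_eq_coheight]
  have h1 : x₀ ≤ x := Scheme.le_iff_specializes.mpr h
  exact_mod_cast Order.coheight_anti h1

/-- On a quasi-compact scheme whose closed points have one-dimensional local rings, every local
ring has dimension at most one. -/
theorem ringKrullDim_stalk_le_one {X : Scheme.{u}} [CompactSpace X]
    (hcurve : ∀ x : X, IsClosed ({x} : Set X) → ringKrullDim (X.presheaf.stalk x) = 1) (x : X) :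
    ringKrullDim (X.presheaf.stalk x) ≤ 1 := by
  obtain ⟨x₀, hx₀, hcl⟩ := (isClosed_closure (s := {x})).exists_closed_singleton
    ⟨x, subset_closure rfl⟩
  have h1 : x ⤳ x₀ := specializes_iff_mem_closure.mpr hx₀
  exact (ringKrullDim_stalk_le_of_specializes h1).trans (hcurve x₀ hcl).le

end Groth.Agent.H4Curve
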